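import Cfsg.Agent.H419.EP.Iface
import Cfsg.Agent.LieClassical.SUBasic
import Cfsg.Prelude.Def_LieClassical

/-!
# S3499, task 5865 (helper117): the models `PSL_n(F)` and `PSU_n(q)` of `H419.EP.Model`
-/

set_option autoImplicit false

namespace Cfsg.Agent.H117.EP

open Cfsg Cfsg.Agent.H419.EP
open scoped MatrixGroups Matrix

variable {F : Type*} [Field F] {n : ℕ}

/-- `det = 1` for the members of `Geo.specialLinear` -/
theorem det_of_mem {g : GL (Fin n) F} (hg : g ∈ Cfsg.Geo.specialLinear (Fin n) F) :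
    (g : Matrix (Fin n) (Fin n) F).det = 1 := by
  have h : Matrix.GeneralLinearGroup.det g = 1 := hg
  have := congrArg (fun u : Fˣ => (u : F)) h
  simpa using this

/-- the map from the kernel of the determinant to `SL` -/
def toSL : Cfsg.Geo.specialLinear (Fin n) F →* Matrix.SpecialLinearGroup (Fin n) F where
  toFun s := ⟨((s : GL (Fin n) F) : Matrix (Fin n) (Fin n) F), det_of_mem s.2⟩
  map_one' := rfl
  map_mul' _ _ := rfl

@[simp] theorem coe_toSL (s : Cfsg.Geo.specialLinear (Fin n) F) :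
    ((toSL s : Matrix.SpecialLinearGroup (Fin n) F) : Matrix (Fin n) (Fin n) F) =
      ((s : GL (Fin n) F) : Matrix (Fin n) (Fin n) F) := rfl

theorem toGL_mem (A : Matrix.SpecialLinearGroup (Fin n) F) :
    (Matrix.SpecialLinearGroup.toGL A : GL (Fin n) F) ∈ Cfsg.Geo.specialLinear (Fin n) F := by
  change Matrix.GeneralLinearGroup.det (Matrix.SpecialLinearGroup.toGL A) = 1
  apply Units.ext
  exact A.2

theorem toSL_surj : Function.Surjective (toSL (F := F) (n := n)) := by
  intro A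
  exact ⟨⟨Matrix.SpecialLinearGroup.toGL A, toGL_mem A⟩, rfl⟩

theorem scal_iff (hn : 1 ≤ n) (g : GL (Fin n) F) (hg : g ∈ Cfsg.Geo.specialLinear (Fin n) F) :
    g ∈ Cfsg.Geo.scalars (Fin n) F ↔
      ∃ r : F, r ^ n = 1 ∧ (g : Matrix (Fin n) (Fin n) F) = Matrix.diagonal (fun _ => r) := by
  rw [Cfsg.Geo.mem_scalars_iff]
  constructor
  · rintro ⟨c, hc⟩
    refine ⟨c, ?_, by rw [hc, Matrix.smul_one_eq_diagonal]⟩
    have h1 := det_of_mem hg
    rw [hc, Matrix.det_smul, Matrix.det_one, mul_one, Fintype.card_fin] at h1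
    exact h1
  · rintro ⟨r, hr, e⟩
    have hr0 : r ≠ 0 := by
      rintro rfl
      rw [zero_pow (by omega)] at hr
      exact zero_ne_one hr
    exact ⟨Units.mk0 r hr0, by rw [e, Units.val_mk0, Matrix.smul_one_eq_diagonal]⟩

/-- **Model of `PSL_n(F)`.** -/
theorem model_PSL (hn : 2 ≤ n) :
    Nonempty (Model (Matrix.ProjectiveSpecialLinearGroup (Fin n) F) (Cfsg.Geo.specialLinear (Fin n) F)) := by
  refine ⟨⟨(QuotientGroup.mk' (Subgroup.center (Matrix.SpecialLinearGroup (Fin n) F))).comp toSL,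
    (QuotientGroup.mk'_surjective _).comp toSL_surj, ?_⟩⟩
  intro s
  rw [MonoidHom.comp_apply, QuotientGroup.mk'_apply, QuotientGroup.eq_one_iff,
    Matrix.SpecialLinearGroup.mem_center_iff, scal_iff (by omega) _ s.2, Fintype.card_fin]
  constructor
  · rintro ⟨r, h1, h2⟩
    exact ⟨r, h1, h2.symm⟩
  · rintro ⟨r, h1, h2⟩
    exact ⟨r, h1, h2.symm⟩

/-- The map from `GU ∩ SL` to `SU`. -/
def toSU (n : ℕ) (F : Type*) [Field F] (q : ℕ) :
    (Cfsg.GU n F q ⊓ Cfsg.Geo.specialLinear (Fin n) F : Subgroup (GL (Fin n) F)) →* Cfsg.SU n F q where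
  toFun s := ⟨⟨((s : GL (Fin n) F) : Matrix (Fin n) (Fin n) F), det_of_mem s.2.2⟩, s.2.1⟩
  map_one' := rfl
  map_mul' _ _ := rfl

theorem toSU_surj (q : ℕ) : Function.Surjective (toSU n F q) := by
  intro A
  exact ⟨⟨Matrix.SpecialLinearGroup.toGL (A : Matrix.SpecialLinearGroup (Fin n) F), A.2, toGL_mem _⟩, rfl⟩

/-- **Model of `PSU_n(q)`.** -/
theorem model_PSU [Fintype F] {q : ℕ} (hF : Fintype.card F = q ^ 2) (hn : 3 ≤ n) :
    Nonempty (Model (Cfsg.PSU n F q) (Cfsg.GU n F q ⊓ Cfsg.Geo.specialLinear (Fin n) F)) := by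
  refine ⟨⟨(QuotientGroup.mk' (Subgroup.center (Cfsg.SU n F q))).comp (toSU n F q),
    (QuotientGroup.mk'_surjective _).comp (toSU_surj q), ?_⟩⟩
  intro s
  rw [MonoidHom.comp_apply, QuotientGroup.mk'_apply, QuotientGroup.eq_one_iff,
    LieClassical.SUBasic.mem_center_SU_iff hF hn, scal_iff (by omega) _ s.2.2]
  constructor
  · rintro ⟨c, h1, h2, h3⟩
    refine ⟨c, h1, ?_⟩
    have := congrArg (fun A : Cfsg.SU n F q =>
      ((A : Matrix.SpecialLinearGroup (Fin n) F) : Matrix (Fin n) (Fin n) F)) h3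
    exact this
  · rintro ⟨r, h1, h2⟩
    have hq : q ≠ 0 := by
      rintro rfl
      simp at hF
    have h3 : r ^ (q + 1) = 1 := by
      have i0 : Fin n := ⟨0, by omega⟩
      have h := s.2.1 (Pi.single i0 1) (Pi.single i0 1)
      rw [show (Units.coeHom (Matrix (Fin n) (Fin n) F)) ((s : GL (Fin n) F)) =
        ((s : GL (Fin n) F) : Matrix (Fin n) (Fin n) F) from rfl, h2] at h
      simp only [LieClassical.SUBasic.hermForm_apply, Matrix.mulVec_diagonal] at h
      have key : ∀ w : F, (∑ i : Fin n, w * (Pi.single i0 (1 : F) : Fin n → F) i *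
          (w * (Pi.single i0 (1 : F) : Fin n → F) i) ^ q) = w ^ (q + 1) := by
        intro w
        rw [Finset.sum_eq_single i0]
        · simp [pow_succ']
        · intro b _ hb
          simp [hb]
        · intro h; exact absurd (Finset.mem_univ _) h
      have h4 := key r
      have h5 := key 1
      simp only [one_mul, one_pow] at h5
      rw [← h4, h, h5]
    refine ⟨r, h1, h3, ?_⟩
    apply Subtype.ext
    apply Subtype.ext
    exact h2

end Cfsg.Agent.H117.EP
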